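import Mathlib
import Groth.Agent.Lib.Helper7.StalkLim.Cone
import Groth.Agent.Lib.Helper7.LimDesc6
import Groth.Agent.Lib.Helper7.LimHom
import Groth.Agent.Lib.Helper7.LimGen2
import Groth.Agent.Lib.Helper7.LimGen3
import Groth.Agent.Lib.Helper5.WEt.Scheme
import Groth.Agent.Lib.Helper2.LfpOfComp

set_option linter.style.haveILetI false
set_option linter.unusedVariables false
set_option linter.unusedSectionVars false
set_option autoImplicit false
set_option backward.isDefEq.respectTransparency.types false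
set_option backward.isDefEq.respectTransparency false
set_option synthInstance.maxHeartbeats 400000
set_option maxHeartbeats 1600000

universe u

/-! helper7: a quasi-finite morphism of finite presentation of affine schemes becomes, after the
base change to the spectrum of the product of the algebraic closures of the residue fields of the
base (an absolutely flat ring all of whose local rings are algebraically closed fields), finite
etale up to a nilpotent thickening: the reduction of the base change is finite etale over the new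
base.  The statement is local on the new base; at a point it holds over the local ring (a perfect
field) and spreads out to a neighbourhood by limit descent. -/

open CategoryTheory CategoryTheory.Limits AlgebraicGeometry Opposite TopologicalSpace

namespace Groth.Agent.Helper7.QFDecomp

section AbsFlat

variable {ι : Type u} (F : ι → Type u) [∀ i, Field (F i)]

theorem exists_mul_one_sub_eq_zero (a : ∀ i, F i) : ∃ b : ∀ i, F i, a * (1 - a * b) = 0 := by
  refine ⟨fun i => (a i)⁻¹, funext fun i => ?_⟩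
  show a i * (1 - a i * (a i)⁻¹) = 0
  by_cases h : a i = 0
  · rw [h, zero_mul]
  · rw [mul_inv_cancel₀ h, sub_self, mul_zero]

variable (p : Ideal (∀ i, F i)) [p.IsPrime] (L : Type u) [CommRing L] [Algebra (∀ i, F i) L]
  [IsLocalization.AtPrime L p]

include p in
theorem algebraMap_surjective : Function.Surjective (algebraMap (∀ i, F i) L) := by
  intro x
  obtain ⟨⟨a, t⟩, hat⟩ := IsLocalization.surj p.primeCompl x
  obtain ⟨u, hu⟩ := exists_mul_one_sub_eq_zero F (t : ∀ i, F i)
  have htu : IsUnit (algebraMap (∀ i, F i) L (t : ∀ i, F i)) := IsLocalization.map_units L t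
  have h1 : algebraMap (∀ i, F i) L (t : ∀ i, F i) *
      (1 - algebraMap (∀ i, F i) L (t : ∀ i, F i) * algebraMap (∀ i, F i) L u) = 0 := by
    have := congrArg (algebraMap (∀ i, F i) L) hu
    simpa only [map_mul, map_sub, map_one, map_zero] using this
  have h2 : algebraMap (∀ i, F i) L (t : ∀ i, F i) * algebraMap (∀ i, F i) L u = 1 :=
    (sub_eq_zero.mp ((htu.mul_right_eq_zero).mp h1)).symm
  refine ⟨a * u, ?_⟩
  have hat' : x * algebraMap (∀ i, F i) L (t : ∀ i, F i) = algebraMap (∀ i, F i) L a := hat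
  rw [map_mul, ← hat', mul_assoc, h2, mul_one]

include p in
theorem isField_of_isLocalization : IsField L := by
  haveI : IsLocalRing L := IsLocalization.AtPrime.isLocalRing L p
  rw [IsLocalRing.isField_iff_maximalIdeal_eq, eq_bot_iff]
  intro x hx
  obtain ⟨a, rfl⟩ := algebraMap_surjective F p L x
  obtain ⟨b, hb⟩ := exists_mul_one_sub_eq_zero F a
  have h1 : algebraMap (∀ i, F i) L a *
      (1 - algebraMap (∀ i, F i) L a * algebraMap (∀ i, F i) L b) = 0 := by
    have := congrArg (algebraMap (∀ i, F i) L) hb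
    simpa only [map_mul, map_sub, map_one, map_zero] using this
  have hu : IsUnit (1 - algebraMap (∀ i, F i) L a * algebraMap (∀ i, F i) L b) :=
    IsLocalRing.isUnit_one_sub_self_of_mem_nonunits _ (by
      rw [← IsLocalRing.mem_maximalIdeal]
      exact Ideal.mul_mem_right _ _ hx)
  rw [Ideal.mem_bot]
  exact (hu.mul_left_eq_zero).mp h1

omit p in
theorem isAlgClosed_of_surjective [∀ i, IsAlgClosed (F i)] {K : Type u} [Field K]
    (φ : (∀ i, F i) →+* K) (hφ : Function.Surjective φ) : IsAlgClosed K := by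
  apply IsAlgClosed.of_exists_root
  intro q hqm hqirr
  have hdeg : 0 < q.natDegree :=
    Polynomial.natDegree_pos_iff_degree_pos.mpr (Polynomial.degree_pos_of_irreducible hqirr)
  obtain ⟨P, hP, hPdeg, hPm⟩ := Polynomial.lifts_and_natDegree_eq_and_monic
    (Polynomial.mem_lifts_of_surjective hφ q) hqm
  have hroot : ∀ i, ∃ z : F i, Polynomial.eval z (P.map (Pi.evalRingHom F i)) = 0 := fun i => by
    apply IsAlgClosed.exists_root
    apply Polynomial.degree_ne_of_natDegree_ne
    rw [hPm.natDegree_map, hPdeg]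
    exact hdeg.ne'
  choose z hz using hroot
  have hPz : Polynomial.eval z P = 0 := by
    funext i
    have h2 := Polynomial.eval₂_hom (p := P) (Pi.evalRingHom F i) z
    have h3 : Polynomial.eval₂ (Pi.evalRingHom F i) ((Pi.evalRingHom F i) z) P = 0 := by
      rw [← Polynomial.eval_map]
      exact hz i
    exact h2.symm.trans h3
  refine ⟨φ z, ?_⟩
  rw [← hP, Polynomial.eval_map, Polynomial.eval₂_hom, hPz, map_zero]

omit p in
theorem stalk_isField [∀ i, IsAlgClosed (F i)] (s : Spec (CommRingCat.of (∀ i, F i))) :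
    ∃ h : IsField ((Spec (CommRingCat.of (∀ i, F i))).presheaf.stalk s),
      @PerfectField _ h.toField := by
  letI alg : Algebra (∀ i, F i) ((Spec (CommRingCat.of (∀ i, F i))).presheaf.stalk s) :=
    StructureSheaf.stalkAlgebra (∀ i, F i) s
  haveI hloc : IsLocalization.AtPrime ((Spec (CommRingCat.of (∀ i, F i))).presheaf.stalk s)
      (PrimeSpectrum.asIdeal s) := StructureSheaf.IsLocalization.to_stalk (∀ i, F i) s
  have hf : IsField ((Spec (CommRingCat.of (∀ i, F i))).presheaf.stalk s) :=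
    isField_of_isLocalization F (PrimeSpectrum.asIdeal s) _
  refine ⟨hf, ?_⟩
  letI := hf.toField
  haveI : IsAlgClosed ((Spec (CommRingCat.of (∀ i, F i))).presheaf.stalk s) :=
    isAlgClosed_of_surjective F
      (algebraMap (∀ i, F i) ((Spec (CommRingCat.of (∀ i, F i))).presheaf.stalk s))
      (algebraMap_surjective F (PrimeSpectrum.asIdeal s) _)
  infer_instance

end AbsFlat

section Cover

/-- the algebraic closure of the residue field at a point -/
abbrev GF (X : Scheme.{u}) (x : X) : Type u := AlgebraicClosure (X.residueField x)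

/-- the geometric point over a point -/
noncomputable def geomPt (X : Scheme.{u}) (x : X) : Spec (CommRingCat.of (GF X x)) ⟶ X :=
  Spec.map (CommRingCat.ofHom (algebraMap (X.residueField x) (GF X x))) ≫
    X.fromSpecResidueField x

theorem geomPt_apply (X : Scheme.{u}) (x : X) (pt : Spec (CommRingCat.of (GF X x))) :
    geomPt X x pt = x := by
  have h : geomPt X x pt ∈ Set.range (X.fromSpecResidueField x) :=
    ⟨Spec.map (CommRingCat.ofHom (algebraMap (X.residueField x) (GF X x))) pt, rfl⟩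
  rw [Scheme.range_fromSpecResidueField] at h
  exact h

/-- the ring homomorphism from the global functions to the product of the algebraic closures of
the residue fields -/
noncomputable def coverHom (X : Scheme.{u}) : Γ(X, ⊤) →+* (∀ x : X, GF X x) :=
  RingHom.pi fun x => ((geomPt X x).appTop ≫ (Scheme.ΓSpecIso (CommRingCat.of (GF X x))).hom).hom

theorem SpecMap_appTop_isoSpec_inv {K : CommRingCat.{u}} {X : Scheme.{u}} [IsAffine X]
    (m : Spec K ⟶ X) :
    Spec.map (m.appTop ≫ (Scheme.ΓSpecIso K).hom) ≫ X.isoSpec.inv = m := by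
  rw [Spec.map_comp, Category.assoc, Scheme.isoSpec_inv_naturality, Scheme.isoSpec_Spec_inv,
    ← Category.assoc, ← Spec.map_comp, Iso.inv_hom_id, Spec.map_id, Category.id_comp]

theorem exists_cover (X : Scheme.{u}) [IsAffine X] :
    ∃ (X' : Scheme.{u}) (_ : IsAffine X') (a : X' ⟶ X), Surjective a ∧ IsReduced X' ∧
      ∀ s : X', ∃ h : IsField (X'.presheaf.stalk s), @PerfectField _ h.toField := by
  refine ⟨Spec (CommRingCat.of (∀ x : X, GF X x)), inferInstance,
    Spec.map (CommRingCat.ofHom (coverHom X)) ≫ X.isoSpec.inv, ⟨fun x => ?_⟩, ?_,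
    fun s => stalk_isField (fun x : X => GF X x) s⟩
  · obtain ⟨pt⟩ : Nonempty (Spec (CommRingCat.of (GF X x))) :=
      (inferInstance : Nonempty (PrimeSpectrum (GF X x)))
    have h2 : (Pi.evalRingHom (fun x : X => GF X x) x).comp (coverHom X) =
        ((geomPt X x).appTop ≫ (Scheme.ΓSpecIso (CommRingCat.of (GF X x))).hom).hom :=
      RingHom.ext fun _ => rfl
    have h1 : Spec.map (CommRingCat.ofHom (Pi.evalRingHom (fun x : X => GF X x) x)) ≫
        Spec.map (CommRingCat.ofHom (coverHom X)) ≫ X.isoSpec.inv = geomPt X x := by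
      rw [← Category.assoc, ← Spec.map_comp, ← CommRingCat.ofHom_comp, h2]
      exact SpecMap_appTop_isoSpec_inv (geomPt X x)
    refine ⟨Spec.map (CommRingCat.ofHom (Pi.evalRingHom (fun x : X => GF X x) x)) pt, ?_⟩
    have h3 := congrArg (fun f : Spec (CommRingCat.of (GF X x)) ⟶ X => f pt) h1
    have h4 := geomPt_apply X x pt
    exact (Scheme.Hom.comp_apply _ _ pt).symm.trans (h3.trans h4)
  · infer_instance

end Cover

section Field

/-- a reduced finite algebra over a perfect field is étale (after helper4, `CartTr1`) -/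
theorem etale_of_isReduced {k : Type u} [Field k] [PerfectField k] (B : Type u) [CommRing B]
    [Algebra k B] [Module.Finite k B] [_root_.IsReduced B] : Algebra.Etale k B := by
  haveI : IsArtinianRing B := IsArtinianRing.of_finite k B
  rw [Algebra.Etale.iff_exists_algEquiv_prod]
  letI : ∀ m : MaximalSpectrum B, Field (B ⧸ m.asIdeal) := fun m => Ideal.Quotient.field m.asIdeal
  refine ⟨MaximalSpectrum B, inferInstance, fun m => B ⧸ m.asIdeal, inferInstance, inferInstance,
    (IsArtinianRing.equivPi B).restrictScalars k, fun m => ⟨inferInstance, ?_⟩⟩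
  exact Algebra.IsAlgebraic.isSeparable_of_perfectField

theorem surjective_SpecMap_mk {D : CommRingCat.{u}} (N : Ideal D) (hN : N ≤ nilradical D) :
    Surjective (Spec.map (CommRingCat.ofHom (Ideal.Quotient.mk N))) := by
  refine ⟨fun x => ?_⟩
  have hx : x ∈ PrimeSpectrum.zeroLocus (RingHom.ker (Ideal.Quotient.mk N) : Set D) := by
    rw [Ideal.mk_ker, PrimeSpectrum.mem_zeroLocus]
    exact fun a ha => nilradical_le_prime (PrimeSpectrum.asIdeal x) (hN ha)
  rw [← _root_.range_comap_of_surjective _ (Ideal.Quotient.mk N)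
    Ideal.Quotient.mk_surjective] at hx
  obtain ⟨y, hy⟩ := hx
  exact ⟨y, hy⟩

/-- the reduction of an affine scheme -/
theorem exists_reduction (T : Scheme.{u}) [IsAffine T] :
    ∃ (Z : Scheme.{u}) (c : Z ⟶ T), IsClosedImmersion c ∧ Surjective c ∧ IsReduced Z := by
  haveI : Surjective (Spec.map (CommRingCat.ofHom (Ideal.Quotient.mk (nilradical Γ(T, ⊤))))) :=
    surjective_SpecMap_mk _ le_rfl
  haveI : _root_.IsReduced (Γ(T, ⊤) ⧸ nilradical Γ(T, ⊤)) :=
    (Ideal.isRadical_iff_quotient_reduced _).mp (Ideal.radical_isRadical _)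
  exact ⟨Spec (CommRingCat.of (Γ(T, ⊤) ⧸ nilradical Γ(T, ⊤))),
    Spec.map (CommRingCat.ofHom (Ideal.Quotient.mk (nilradical Γ(T, ⊤)))) ≫ T.isoSpec.inv,
    inferInstance, inferInstance, inferInstance⟩

/-- surjective closed immersions from reduced schemes to the same scheme are isomorphic -/
theorem exists_iso_of_reduced {T A B : Scheme.{u}} (a : A ⟶ T) (b : B ⟶ T) [IsClosedImmersion a]
    [Surjective a] [IsClosedImmersion b] [Surjective b] [IsReduced A] [IsReduced B] :
    ∃ θ : A ≅ B, θ.hom ≫ b = a := by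
  haveI : IsClosedImmersion (pullback.fst a b) :=
    MorphismProperty.pullback_fst (P := @IsClosedImmersion) a b inferInstance
  haveI : Surjective (pullback.fst a b) :=
    MorphismProperty.pullback_fst (P := @Surjective) a b inferInstance
  haveI : IsClosedImmersion (pullback.snd a b) :=
    MorphismProperty.pullback_snd (P := @IsClosedImmersion) a b inferInstance
  haveI : Surjective (pullback.snd a b) :=
    MorphismProperty.pullback_snd (P := @Surjective) a b inferInstance
  haveI : IsIso (pullback.fst a b) := isIso_of_isClosedImmersion_of_surjective _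
  haveI : IsIso (pullback.snd a b) := isIso_of_isClosedImmersion_of_surjective _
  refine ⟨(asIso (pullback.fst a b)).symm ≪≫ asIso (pullback.snd a b), ?_⟩
  simp only [Iso.trans_hom, Iso.symm_hom, asIso_inv, asIso_hom, Category.assoc]
  rw [← pullback.condition, IsIso.inv_hom_id_assoc]

/-- over a perfect field, the reduction of a quasi-finite scheme of finite type is finite etale,
and the nilradical is finitely generated -/
theorem exists_reduced_etale {T : Scheme.{u}} [IsAffine T] (K : CommRingCat.{u}) (hK : IsField K)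
    (hperf : @PerfectField K hK.toField) (q : T ⟶ Spec K) [LocallyQuasiFinite q]
    [LocallyOfFiniteType q] :
    ∃ (Z : Scheme.{u}) (c : Z ⟶ T), IsClosedImmersion c ∧ Surjective c ∧
      LocallyOfFinitePresentation c ∧ IsFinite (c ≫ q) ∧ Etale (c ≫ q) := by
  letI : Field K := hK.toField
  haveI : PerfectField K := hperf
  obtain ⟨ψ, hψ⟩ : ∃ ψ : K ⟶ Γ(T, ⊤), Spec.map ψ = T.isoSpec.inv ≫ q :=
    ⟨Spec.preimage (T.isoSpec.inv ≫ q), Spec.map_preimage _⟩
  have hqf : ψ.hom.QuasiFinite := by
    have h : LocallyQuasiFinite (Spec.map ψ) := by rw [hψ]; infer_instance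
    exact (HasRingHomProperty.Spec_iff (P := @LocallyQuasiFinite)).mp h
  letI : Algebra K Γ(T, ⊤) := ψ.hom.toAlgebra
  haveI : Algebra.QuasiFinite K Γ(T, ⊤) := hqf
  haveI : Module.Finite K Γ(T, ⊤) := Module.Finite.of_quasiFinite
  haveI : IsNoetherian K Γ(T, ⊤) := isNoetherian_of_isNoetherianRing_of_finite K Γ(T, ⊤)
  haveI : IsNoetherianRing Γ(T, ⊤) := isNoetherian_of_tower K inferInstance
  obtain ⟨N, hN⟩ : ∃ N : Ideal Γ(T, ⊤), N = nilradical Γ(T, ⊤) := ⟨_, rfl⟩
  haveI : _root_.IsReduced (Γ(T, ⊤) ⧸ N) := by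
    rw [hN]
    exact (Ideal.isRadical_iff_quotient_reduced _).mp (Ideal.radical_isRadical _)
  haveI : Module.Finite K (Γ(T, ⊤) ⧸ N) := inferInstance
  have het : Algebra.Etale K (Γ(T, ⊤) ⧸ N) := etale_of_isReduced _
  obtain ⟨π, hπ⟩ : ∃ π : Γ(T, ⊤) ⟶ CommRingCat.of (Γ(T, ⊤) ⧸ N),
      π = CommRingCat.ofHom (Ideal.Quotient.mk N) := ⟨_, rfl⟩
  haveI : IsClosedImmersion (Spec.map π) := by rw [hπ]; infer_instance
  haveI : Surjective (Spec.map π) := by
    rw [hπ]
    exact surjective_SpecMap_mk N hN.le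
  haveI : LocallyOfFinitePresentation (Spec.map π) := by
    rw [LocallyOfFinitePresentation.SpecMap_iff, hπ]
    refine RingHom.FinitePresentation.of_surjective _ Ideal.Quotient.mk_surjective ?_
    show (RingHom.ker (Ideal.Quotient.mk N)).FG
    rw [Ideal.mk_ker]
    exact IsNoetherian.noetherian N
  have hcomp : (Spec.map π ≫ T.isoSpec.inv) ≫ q = Spec.map (ψ ≫ π) := by
    rw [Category.assoc, ← hψ, ← Spec.map_comp]
  have halg : (ψ ≫ π).hom = algebraMap K (Γ(T, ⊤) ⧸ N) := by
    rw [hπ]
    rfl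
  refine ⟨_, Spec.map π ≫ T.isoSpec.inv, inferInstance, inferInstance, inferInstance, ?_, ?_⟩
  · rw [hcomp, IsFinite.SpecMap_iff, halg]
    exact RingHom.finite_algebraMap.mpr inferInstance
  · rw [hcomp, HasRingHomProperty.Spec_iff (P := @Etale), halg]
    exact RingHom.etale_algebraMap.mpr het

end Field

section Local

open Groth.Agent.Helper7.StalkLim Groth.Agent.Helper7.LimDesc Groth.Agent.Helper7.LimStage

/-- a finite etale reduction of the base change to the local scheme at a point spreads out to a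
neighbourhood of the point -/
theorem exists_nhd {S Y : Scheme.{u}} (g : Y ⟶ S) [LocallyOfFinitePresentation g] [QuasiCompact g]
    [QuasiSeparated g] (s : S) {Zp : Scheme.{u}} (cp : Zp ⟶ pullback g (S.fromSpecStalk s))
    [IsClosedImmersion cp] [Surjective cp] [LocallyOfFinitePresentation cp]
    (hfin : IsFinite (cp ≫ pullback.snd g (S.fromSpecStalk s)))
    (het : Etale (cp ≫ pullback.snd g (S.fromSpecStalk s))) :
    ∃ (V : S.Opens) (_ : s ∈ V) (Z : Scheme.{u}) (c : Z ⟶ (g ⁻¹ᵁ V).toScheme),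
      IsClosedImmersion c ∧ Surjective c ∧ IsFinite (c ≫ g ∣_ V) ∧ Etale (c ≫ g ∣_ V) := by
  obtain ⟨hc⟩ := isLimit_nbCone S s
  obtain ⟨i₀⟩ := (inferInstance : Nonempty (Nb S s))
  obtain ⟨gp, hgp⟩ : ∃ gp : pullback g (S.fromSpecStalk s) ⟶ (nbCone S s).pt,
      gp = pullback.snd g (S.fromSpecStalk s) := ⟨_, rfl⟩
  obtain ⟨w, hw⟩ : ∃ w : Zp ⟶ (nbCone S s).pt, w = cp ≫ gp := ⟨_, rfl⟩
  have hwfin : IsFinite w := by rw [hw, hgp]; exact hfin
  have hwet : Etale w := by rw [hw, hgp]; exact het
  haveI := hwfin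
  haveI := hwet
  -- a finite etale model of `w` over a stage
  obtain ⟨N₀, -, M₀, hM₀⟩ := exists_model_etale_over hc i₀ w
  obtain ⟨N, φ, hfinM⟩ := M₀.exists_stage_property @IsFinite
    (fun hs => Groth.Agent.Helper7.LimGen.exists_stage_isFinite' (nbDiag S s) (nbCone S s) hc
      M₀.zj (𝟙 _) hs) hwfin
  have hetM : Etale (M₀.stage φ).zj := M₀.stage_property @Etale hM₀ φ
  obtain ⟨M, hM⟩ : ∃ M : Model (nbDiag S s) (nbCone S s) w N, M = M₀.stage φ := ⟨_, rfl⟩
  rw [← hM] at hfinM hetM
  haveI := hfinM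
  haveI := hetM
  haveI : IsAffine M.Zj := isAffine_of_isAffineHom M.zj
  -- the restriction of `g` over the stage
  obtain ⟨yN, hyN⟩ : ∃ yN : (g ⁻¹ᵁ N.1).toScheme ⟶ (nbDiag S s).obj N, yN = g ∣_ N.1 := ⟨_, rfl⟩
  haveI : LocallyOfFinitePresentation yN := by
    rw [hyN]
    exact MorphismProperty.of_isPullback (P := @LocallyOfFinitePresentation)
      (isPullback_morphismRestrict g N.1).flip inferInstance
  haveI : QuasiCompact yN := by
    rw [hyN]
    exact MorphismProperty.of_isPullback (P := @QuasiCompact)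
      (isPullback_morphismRestrict g N.1).flip inferInstance
  haveI : QuasiSeparated yN := by
    rw [hyN]
    exact MorphismProperty.of_isPullback (P := @QuasiSeparated)
      (isPullback_morphismRestrict g N.1).flip inferInstance
  have hYN : IsPullback (toPreimage g N) gp yN ((nbCone S s).π.app N) := by
    rw [hgp, hyN]
    exact isPullback_toPreimage g N
  -- descent of the closed immersion to a stage
  obtain ⟨j, ψ, fj, sX, sY, h1, h2, h3, h4, h5, h6⟩ :=
    Groth.Agent.Helper7.LimHom.exists_hom_descend (nbDiag S s) (nbCone S s) hc N M.zj yN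
      M.isPullback hYN cp hw.symm
  obtain ⟨xj, hxj⟩ : ∃ xj : pullback M.zj ((nbDiag S s).map ψ) ⟶ (nbDiag S s).obj j,
      xj = pullback.snd M.zj ((nbDiag S s).map ψ) := ⟨_, rfl⟩
  obtain ⟨gj, hgj⟩ : ∃ gj : pullback yN ((nbDiag S s).map ψ) ⟶ (nbDiag S s).obj j,
      gj = pullback.snd yN ((nbDiag S s).map ψ) := ⟨_, rfl⟩
  have hfg : fj ≫ gj = xj := by rw [hgj, hxj]; exact h1
  haveI : IsFinite xj := by rw [hxj]; infer_instance
  haveI : Etale xj := by rw [hxj]; infer_instance
  haveI : LocallyOfFinitePresentation gj := by rw [hgj]; infer_instance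
  haveI : QuasiCompact gj := by rw [hgj]; infer_instance
  haveI : QuasiSeparated gj := by rw [hgj]; infer_instance
  haveI : IsAffine (pullback M.zj ((nbDiag S s).map ψ)) := isAffine_of_isAffineHom xj
  haveI : CompactSpace ↥(pullback yN ((nbDiag S s).map ψ)) :=
    QuasiCompact.compactSpace_of_compactSpace gj
  haveI : QuasiSeparatedSpace ↥(pullback yN ((nbDiag S s).map ψ)) :=
    quasiSeparatedSpace_of_quasiSeparated gj
  haveI : LocallyOfFinitePresentation fj :=
    Groth.Agent.Helper2.locallyOfFinitePresentation_of_comp fj gj inferInstance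
      (by rw [hfg]; infer_instance)
  have hπ : (nbCone S s).π.app j ≫ (nbDiag S s).map ψ = (nbCone S s).π.app N :=
    (nbCone S s).w ψ
  have hYj : IsPullback sY gp gj ((nbCone S s).π.app j) := by
    rw [hgj]
    refine IsPullback.of_right (h₁₂ := pullback.fst yN ((nbDiag S s).map ψ))
      (h₂₂ := (nbDiag S s).map ψ) (v₁₃ := yN) ?_ h5
      (IsPullback.of_hasPullback yN ((nbDiag S s).map ψ))
    rw [h4, hπ]
    exact hYN
  have hXj' : IsPullback sX w xj ((nbCone S s).π.app j) := by
    rw [hxj]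
    refine IsPullback.of_right (h₁₂ := pullback.fst M.zj ((nbDiag S s).map ψ))
      (h₂₂ := (nbDiag S s).map ψ) (v₁₃ := M.zj) ?_ h3
      (IsPullback.of_hasPullback M.zj ((nbDiag S s).map ψ))
    rw [h2, hπ]
    exact M.isPullback
  have hXj : IsPullback sX cp fj sY := by
    refine IsPullback.of_bot ?_ h6 hYj
    rw [← hw, hfg]
    exact hXj'
  have hcl : IsClosedImmersion (bcHom fj gj ((nbCone S s).π.app j)) :=
    bcHom_of_isPullback fj gj @IsClosedImmersion ((nbCone S s).π.app j) hYj hXj inferInstance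
  have hsu : Surjective (bcHom fj gj ((nbCone S s).π.app j)) :=
    bcHom_of_isPullback fj gj @Surjective ((nbCone S s).π.app j) hYj hXj inferInstance
  obtain ⟨j₁, φ₁, hcl₁⟩ := Groth.Agent.Helper7.LimGen.exists_stage_isClosedImmersion'
    (nbDiag S s) (nbCone S s) hc fj gj hcl
  obtain ⟨j₂, φ₂, hsu₂⟩ := Groth.Agent.Helper7.LimGen.exists_stage_surjective
    (nbDiag S s) (nbCone S s) hc fj gj hsu
  -- a common stage
  obtain ⟨k, ⟨θ₁⟩, ⟨θ₂⟩⟩ : ∃ k : Nb S s, Nonempty (k ⟶ j₁) ∧ Nonempty (k ⟶ j₂) :=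
    ⟨IsCofiltered.min j₁ j₂, ⟨IsCofiltered.minToLeft j₁ j₂⟩, ⟨IsCofiltered.minToRight j₁ j₂⟩⟩
  obtain ⟨θ, hθ⟩ : ∃ θ : k ⟶ j, θ = θ₁ ≫ φ₁ := ⟨_, rfl⟩
  have hθ' : θ = θ₂ ≫ φ₂ := Subsingleton.elim _ _
  have hclk : IsClosedImmersion (bcHom fj gj ((nbDiag S s).map θ)) := by
    rw [hθ]
    exact stage_mono (nbDiag S s) fj gj @IsClosedImmersion φ₁ θ₁ hcl₁
  have hsuk : Surjective (bcHom fj gj ((nbDiag S s).map θ)) := by
    rw [hθ']
    exact stage_mono (nbDiag S s) fj gj @Surjective φ₂ θ₂ hsu₂
  -- identification of the stage with the preimage of the neighbourhood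
  have hιψ : (nbDiag S s).map ψ ≫ N.1.ι = j.1.ι :=
    S.homOfLE_ι (Subtype.coe_le_coe.mpr (leOfHom ψ))
  have hιθ : (nbDiag S s).map θ ≫ j.1.ι = k.1.ι :=
    S.homOfLE_ι (Subtype.coe_le_coe.mpr (leOfHom θ))
  have hP : IsPullback (pullback.fst gj ((nbDiag S s).map θ) ≫
      pullback.fst yN ((nbDiag S s).map ψ) ≫ (g ⁻¹ᵁ N.1).ι)
      (pullback.snd gj ((nbDiag S s).map θ)) g k.1.ι := by
    have hmid : IsPullback (pullback.fst yN ((nbDiag S s).map ψ)) gj yN
        ((nbDiag S s).map ψ) := by
      rw [hgj]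
      exact IsPullback.of_hasPullback yN ((nbDiag S s).map ψ)
    have hright : IsPullback (g ⁻¹ᵁ N.1).ι yN g N.1.ι := by
      rw [hyN]
      exact (isPullback_morphismRestrict g N.1).flip
    have h0 := (IsPullback.of_hasPullback gj ((nbDiag S s).map θ)).paste_horiz
      (hmid.paste_horiz hright)
    rw [hιψ, hιθ] at h0
    exact h0
  obtain ⟨m, hm⟩ : ∃ m : pullback gj ((nbDiag S s).map θ) ⟶ Y,
      m = pullback.fst gj ((nbDiag S s).map θ) ≫
        pullback.fst yN ((nbDiag S s).map ψ) ≫ (g ⁻¹ᵁ N.1).ι := ⟨_, rfl⟩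
  obtain ⟨pk, hpk⟩ : ∃ pk : pullback gj ((nbDiag S s).map θ) ⟶ k.1.toScheme,
      pk = pullback.snd gj ((nbDiag S s).map θ) := ⟨_, rfl⟩
  rw [← hm, ← hpk] at hP
  obtain ⟨e, he⟩ : ∃ e : pullback gj ((nbDiag S s).map θ) ≅ (g ⁻¹ᵁ k.1).toScheme,
      e = stageIso g k.1 hP := ⟨_, rfl⟩
  have he1 : e.hom ≫ (g ⁻¹ᵁ k.1).ι = m := by
    rw [he]
    exact stageIso_hom_ι g k.1 hP
  have he2 : e.hom ≫ g ∣_ k.1 = pk := by
    rw [← cancel_mono k.1.ι, Category.assoc, morphismRestrict_ι, ← Category.assoc, he1]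
    exact hP.w
  obtain ⟨b, hb⟩ : ∃ b : pullback (fj ≫ gj) ((nbDiag S s).map θ) ⟶
      pullback gj ((nbDiag S s).map θ), b = bcHom fj gj ((nbDiag S s).map θ) := ⟨_, rfl⟩
  rw [← hb] at hclk hsuk
  haveI := hclk
  haveI := hsuk
  have hbs : b ≫ pk = pullback.snd (fj ≫ gj) ((nbDiag S s).map θ) := by
    rw [hb, hpk]
    exact bcHom_snd fj gj _
  haveI : IsFinite (fj ≫ gj) := by rw [hfg]; infer_instance
  haveI : Etale (fj ≫ gj) := by rw [hfg]; infer_instance
  have hcomp : (b ≫ e.hom) ≫ g ∣_ k.1 = pullback.snd (fj ≫ gj) ((nbDiag S s).map θ) := by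
    rw [Category.assoc, he2, hbs]
  refine ⟨k.1, k.2.2, _, b ≫ e.hom, inferInstance, inferInstance, ?_, ?_⟩
  · rw [hcomp]
    infer_instance
  · rw [hcomp]
    infer_instance

end Local

section Main

/-- the decomposition of a quasi-finite morphism of finite presentation of affine schemes -/
theorem main {Y X : Scheme.{u}} [IsAffine X] [IsAffine Y] (f : Y ⟶ X)
    [LocallyQuasiFinite f] [LocallyOfFinitePresentation f] :
    ∃ (X' : Scheme.{u}) (_ : IsAffine X') (a : X' ⟶ X) (_ : Surjective a) (Z' : Scheme.{u})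
      (c : Z' ⟶ pullback a f) (_ : IsClosedImmersion c) (_ : Surjective c),
      IsFinite (c ≫ pullback.fst a f) ∧ Etale (c ≫ pullback.fst a f) := by
  obtain ⟨X', hX', a, ha, hred, hstalk⟩ := exists_cover X
  haveI := hX'
  haveI := hred
  obtain ⟨g, hg⟩ : ∃ g : pullback a f ⟶ X', g = pullback.fst a f := ⟨_, rfl⟩
  haveI : LocallyQuasiFinite g := by rw [hg]; infer_instance
  haveI : LocallyOfFinitePresentation g := by rw [hg]; infer_instance
  haveI : IsAffine (pullback a f) := inferInstance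
  haveI : IsAffineHom g := inferInstance
  obtain ⟨Zr, cr, hcl, hsu, hZred⟩ := exists_reduction (pullback a f)
  haveI := hcl
  haveI := hsu
  haveI := hZred
  have key : ∀ s : X', ∃ V : X'.Opens, s ∈ V ∧ IsFinite ((cr ≫ g) ∣_ V) ∧
      Etale ((cr ≫ g) ∣_ V) := by
    intro s
    obtain ⟨hK, hperf⟩ := hstalk s
    haveI : IsAffine (pullback g (X'.fromSpecStalk s)) := inferInstance
    obtain ⟨Zp, cp, hcp1, hcp2, hcp3, hcp4, hcp5⟩ := exists_reduced_etale (X'.presheaf.stalk s)
      hK hperf (pullback.snd g (X'.fromSpecStalk s))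
    haveI := hcp1
    haveI := hcp2
    haveI := hcp3
    obtain ⟨V, hsV, Z, c, hc1, hc2, hc3, hc4⟩ := exists_nhd g s cp hcp4 hcp5
    haveI := hc1
    haveI := hc2
    haveI := hc3
    haveI := hc4
    refine ⟨V, hsV, ?_⟩
    haveI : IsReduced Z := Helper5.WEt.isReduced_of_weaklyEtale_scheme (c ≫ g ∣_ V)
    haveI : IsClosedImmersion (cr ∣_ (g ⁻¹ᵁ V)) := IsZariskiLocalAtTarget.restrict hcl _
    haveI : Surjective (cr ∣_ (g ⁻¹ᵁ V)) := IsZariskiLocalAtTarget.restrict hsu _
    obtain ⟨θ, hθ⟩ := exists_iso_of_reduced (cr ∣_ (g ⁻¹ᵁ V)) c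
    have hcomp : (cr ≫ g) ∣_ V = θ.hom ≫ (c ≫ g ∣_ V) := by
      rw [morphismRestrict_comp, ← Category.assoc, hθ]
    rw [hcomp]
    exact ⟨inferInstance, inferInstance⟩
  refine ⟨X', hX', a, ha, Zr, cr, hcl, hsu, ?_, ?_⟩
  · rw [← hg]
    exact IsZariskiLocalAtTarget.of_forall_exists_morphismRestrict (P := @IsFinite) fun s => by
      obtain ⟨V, h1, h2, -⟩ := key s
      exact ⟨V, h1, h2⟩
  · rw [← hg]
    exact IsZariskiLocalAtTarget.of_forall_exists_morphismRestrict (P := @Etale) fun s => by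
      obtain ⟨V, h1, -, h2⟩ := key s
      exact ⟨V, h1, h2⟩

end Main

end Groth.Agent.Helper7.QFDecomp
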